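import Cfsg.Agent.ThRel.R8Cert.FactsData
import Cfsg.Agent.ThRel.R8Cert.JustData
import Cfsg.Agent.CosetCert.CoxExtra
import Cfsg.Agent.CosetCert.Pack

/-! Generated: the certificate. -/

set_option maxRecDepth 100000

namespace Cfsg.Agent.ThRel.R8Cert

open Cfsg.Agent.CosetCert

noncomputable def data : Data where
  K := 12
  n := 0
  M := 22950
  Nf := 56317
  nR := 37
  iv := fun x => if x < 6 then x + 6 else if x < 12 then x - 6 else x
  F := get48 factStore
  J := getVar justStore
  E := fun _ => 0
  L := fun _ => 0
  P := fun _ => 0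
  W := [
    [0, 0],
    [1, 1],
    [2, 2],
    [3, 3],
    [4, 4],
    [0, 4, 0, 4],
    [1, 3, 1, 3],
    [1, 4, 1, 4],
    [2, 4, 2, 4],
    [0, 2, 0, 2],
    [0, 3, 0, 3],
    [5, 5, 8, 6],
    [11, 6, 5, 0],
    [11, 8, 5, 2],
    [11, 10, 5, 4],
    [0, 1, 0, 1, 0, 1],
    [1, 2, 1, 2, 1, 2],
    [3, 4, 3, 4, 3, 4],
    [6, 9, 11, 3, 0, 9, 5, 3],
    [0, 9, 8, 9, 8, 9, 8, 9, 8],
    [3, 4, 11, 3, 5, 3, 4, 11, 3, 5],
    [11, 7, 8, 6, 1, 5, 7, 0, 2, 1, 4],
    [2, 3, 2, 3, 2, 3, 2, 3, 2, 3, 2, 3, 2, 3, 2, 3],
    [9, 11, 3, 7, 8, 6, 1, 9, 5, 3, 7, 0, 2, 1, 8, 10, 9, 11, 3, 7, 8, 6, 1, 10, 11],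
    [],
    [0, 6],
    [1, 7],
    [2, 8],
    [3, 9],
    [4, 10],
    [5, 11],
    [6, 0],
    [7, 1],
    [8, 2],
    [9, 3],
    [10, 4],
    [11, 5],
    [3, 4]]
  PW := fun k => Nat.land (Nat.shiftRight 0xa400000000000000000000000000000cc00000000000000000000000000000ab000000000000000000000000000008a0000000000000000000000000000069000000000000000000000000000004800000000000000000000000000000270000000000000000000000000000186000000000000000000000000000016500000000000000000000000000001440000000000000000000000000000123000000000000000000000000000010200000000000000000000000000000e10000000000000000000000000000000c588e94118a5a4430a086508e94118a0000000000020c8320c8320c8320c830000000000000000014430a0c23a50c0000000000000000000c461486230a400000000000000000000952549525410000000000000000000002194123147000000000000000000000000a4290a400000000000000000000000062188620000000000000000000000004110441000000000000000000000000002996c000000000000000000000000001992c00000000000000000000000000098ec000000000000000000000000003a4c6000000000000000000000000002048100000000000000000000000000184610000000000000000000000000028ca300000000000000000000000000288a2000000000000000000000000002088200000000000000000000000000284a100000000000000000000000000000a50000000000000000000000000000084000000000000000000000000000006300000000000000000000000000000420000000000000000000000000000021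 (Nat.mul 124 k)) 0xfffffffffffffffffffffffffffffff
  powers := [
    ([0, 0], 1),
    ([1, 1], 1),
    ([2, 2], 1),
    ([3, 3], 1),
    ([4, 4], 1),
    ([0, 4, 0, 4], 1),
    ([1, 3, 1, 3], 1),
    ([1, 4, 1, 4], 1),
    ([2, 4, 2, 4], 1),
    ([0, 2, 0, 2], 1),
    ([0, 3, 0, 3], 1),
    ([5, 5, 8, 6], 1),
    ([11, 6, 5, 0], 1),
    ([11, 8, 5, 2], 1),
    ([11, 10, 5, 4], 1),
    ([0, 1, 0, 1, 0, 1], 1),
    ([1, 2, 1, 2, 1, 2], 1),
    ([3, 4, 3, 4, 3, 4], 1),
    ([6, 9, 11, 3, 0, 9, 5, 3], 1),
    ([0, 9, 8, 9, 8, 9, 8, 9, 8], 1),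
    ([3, 4, 11, 3, 5, 3, 4, 11, 3, 5], 1),
    ([11, 7, 8, 6, 1, 5, 7, 0, 2, 1, 4], 1),
    ([2, 3, 2, 3, 2, 3, 2, 3, 2, 3, 2, 3, 2, 3, 2, 3], 1),
    ([9, 11, 3, 7, 8, 6, 1, 9, 5, 3, 7, 0, 2, 1, 8, 10, 9, 11, 3, 7, 8, 6, 1, 10, 11], 1),
    ([], 1),
    ([0, 6], 1),
    ([1, 7], 1),
    ([2, 8], 1),
    ([3, 9], 1),
    ([4, 10], 1),
    ([5, 11], 1),
    ([6, 0], 1),
    ([7, 1], 1),
    ([8, 2], 1),
    ([9, 3], 1),
    ([10, 4], 1),
    ([11, 5], 1)]

/-- The relators. -/
def relWords : List (List (Fin 6 × Bool)) := [
    [(0, true), (0, true)],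
    [(1, true), (1, true)],
    [(2, true), (2, true)],
    [(3, true), (3, true)],
    [(4, true), (4, true)],
    [(0, true), (4, true), (0, true), (4, true)],
    [(1, true), (3, true), (1, true), (3, true)],
    [(1, true), (4, true), (1, true), (4, true)],
    [(2, true), (4, true), (2, true), (4, true)],
    [(0, true), (2, true), (0, true), (2, true)],
    [(0, true), (3, true), (0, true), (3, true)],
    [(5, true), (5, true), (2, false), (0, false)],
    [(5, false), (0, false), (5, true), (0, true)],
    [(5, false), (2, false), (5, true), (2, true)],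
    [(5, false), (4, false), (5, true), (4, true)],
    [(0, true), (1, true), (0, true), (1, true), (0, true), (1, true)],
    [(1, true), (2, true), (1, true), (2, true), (1, true), (2, true)],
    [(3, true), (4, true), (3, true), (4, true), (3, true), (4, true)],
    [(0, false), (3, false), (5, false), (3, true), (0, true), (3, false), (5, true), (3, true)],
    [(0, true), (3, false), (2, false), (3, false), (2, false), (3, false), (2, false), (3, false), (2, false)],
    [(3, true), (4, true), (5, false), (3, true), (5, true), (3, true), (4, true), (5, false), (3, true), (5, true)],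
    [(5, false), (1, false), (2, false), (0, false), (1, true), (5, true), (1, false), (0, true), (2, true), (1, true), (4, true)],
    [(2, true), (3, true), (2, true), (3, true), (2, true), (3, true), (2, true), (3, true), (2, true), (3, true), (2, true), (3, true), (2, true), (3, true), (2, true), (3, true)],
    [(3, false), (5, false), (3, true), (1, false), (2, false), (0, false), (1, true), (3, false), (5, true), (3, true), (1, false), (0, true), (2, true), (1, true), (2, false), (4, false), (3, false), (5, false), (3, true), (1, false), (2, false), (0, false), (1, true), (4, false), (5, false)]]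

/-- The subgroup's generators. -/
def subWords : List (List (Fin 6 × Bool)) := [
    [(3, true), (4, true)]]

/-- The numbering of the generators. -/
def enc (b : Fin 6) : Nat := b.val

/-- The generator of a number. -/
def dec (x : Nat) : Fin 6 × Bool := if x < 6 then (Fin.ofNat 6 x, true) else (Fin.ofNat 6 x, false)

end Cfsg.Agent.ThRel.R8Cert
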